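import Mathlib
import Groth.Prelude.Def_W4c3dlvarstrshPar

/-! Chambers of `GL` and exactness of the parabolic complex. -/

set_option autoImplicit false

namespace Groth.DLVar

open Matrix W4c3dlvarstrsh

section Boolean

variable {R : Type*} [CommRing R] {r : ℕ}

/-- the sign -/
def s (T : Finset (Fin r)) (a : Fin r) : R := (sgn T a : R)

theorem s_sq (T : Finset (Fin r)) (a : Fin r) : (s T a : R) * s T a = 1 := by
  rw [s, ← Int.cast_mul, sgn, ← mul_pow, neg_one_mul, neg_neg, one_pow, Int.cast_one]

theorem s_swap {T : Finset (Fin r)} {a b : Fin r} (ha : a ∉ T) (hb : b ∉ T) (hab : a ≠ b) :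
    (s T a : R) * s (insert a T) b + s T b * s (insert b T) a = 0 := by
  simp only [s, sgn, Finset.filter_insert]
  rcases lt_or_gt_of_ne hab with h | h
  · rw [if_pos h, if_neg (not_lt.2 h.le), Finset.card_insert_of_notMem (by simp [ha])]
    push_cast
    ring
  · rw [if_neg (not_lt.2 h.le), if_pos h, Finset.card_insert_of_notMem (by simp [hb])]
    push_cast
    ring

/-- the differential on all families -/
def D (h : Finset (Fin r) → R) (T : Finset (Fin r)) : R :=
  ∑ a ∈ Tᶜ, s T a * h (insert a T)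

theorem D_sub (h h' : Finset (Fin r) → R) (T : Finset (Fin r)) : D (h - h') T = D h T - D h' T := by
  simp only [D, Pi.sub_apply, mul_sub, Finset.sum_sub_distrib]

theorem D_add (h h' : Finset (Fin r) → R) (T : Finset (Fin r)) : D (h + h') T = D h T + D h' T := by
  simp only [D, Pi.add_apply, mul_add, Finset.sum_add_distrib]

theorem D_D (h : Finset (Fin r) → R) (T : Finset (Fin r)) : D (D h) T = 0 := by
  simp only [D, Finset.mul_sum]
  rw [Finset.sum_sigma']
  refine Finset.sum_involution (fun x _ => ⟨x.2, x.1⟩) ?_ ?_ ?_ ?_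
  · rintro ⟨a, b⟩ hx
    simp only [Finset.mem_sigma, Finset.mem_compl, Finset.mem_insert, not_or] at hx
    obtain ⟨ha, hba, hb⟩ := hx
    dsimp only
    rw [← mul_assoc, ← mul_assoc, Finset.insert_comm b a, ← add_mul, s_swap ha hb (Ne.symm hba), zero_mul]
  · rintro ⟨a, b⟩ hx - he
    simp only [Finset.mem_sigma, Finset.mem_compl, Finset.mem_insert, not_or] at hx
    exact hx.2.1 (congrArg Sigma.fst he)
  · rintro ⟨a, b⟩ hx
    simp only [Finset.mem_sigma, Finset.mem_compl, Finset.mem_insert, not_or] at hx ⊢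
    exact ⟨hx.2.2, Ne.symm hx.2.1, hx.1⟩
  · intros; rfl

/-- the contraction at a letter -/
def K (a₀ : Fin r) (h : Finset (Fin r) → R) (U : Finset (Fin r)) : R :=
  if a₀ ∈ U then s (U.erase a₀) a₀ * h (U.erase a₀) else 0

theorem D_K (a₀ : Fin r) (h : Finset (Fin r) → R) (T : Finset (Fin r)) :
    D (K a₀ h) T + K a₀ (D h) T = h T := by
  by_cases ha : a₀ ∈ T
  · have hc : (T.erase a₀)ᶜ = insert a₀ Tᶜ := by
      ext x; by_cases hx : x = a₀ <;> simp [hx]
    have hn : a₀ ∉ Tᶜ := by simp [ha]
    simp only [K, if_pos ha, D, hc, Finset.sum_insert hn, Finset.insert_erase ha, mul_add,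
      ← mul_assoc, s_sq, one_mul, Finset.mul_sum]
    rw [add_comm, add_assoc, ← Finset.sum_add_distrib, Finset.sum_eq_zero, add_zero]
    intro a haT
    rw [Finset.mem_compl] at haT
    have hne : a ≠ a₀ := fun e => haT (e ▸ ha)
    have e1 : (insert a T).erase a₀ = insert a (T.erase a₀) := Finset.erase_insert_of_ne hne
    rw [if_pos (Finset.mem_insert_of_mem ha), e1]
    have h1 := s_swap (R := R) (T := T.erase a₀) (a := a₀) (b := a) (Finset.notMem_erase _ _)
      (fun h => haT (Finset.mem_of_mem_erase h)) (Ne.symm hne)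
    rw [Finset.insert_erase ha] at h1
    linear_combination (s T a * h (insert a (T.erase a₀)) * (s (T.erase a₀) a)) * h1 -
      (s T a * h (insert a (T.erase a₀)) * s (insert a (T.erase a₀)) a₀) * (s_sq (R := R) (T.erase a₀) a) -
      (h (insert a (T.erase a₀)) * s (T.erase a₀) a₀ * s (T.erase a₀) a) * (s_sq (R := R) T a) +
      (h (insert a (T.erase a₀)) * s (T.erase a₀) a₀ * s (T.erase a₀) a) * 0
  · simp only [K, if_neg ha, D, add_zero]
    rw [Finset.sum_eq_single a₀ (fun a _ hne => by simp [Ne.symm hne, ha])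
      (fun hn => absurd (Finset.mem_compl.2 ha) hn), if_pos (Finset.mem_insert_self _ _),
      Finset.erase_insert ha, ← mul_assoc, s_sq, one_mul]

/-- cycles are boundaries in presence of a triangular retraction system -/
theorem exists_primitive {X ρ : Type*} [Preorder ρ] [WellFoundedLT ρ] (rk : X → ρ)
    (A : X → Finset (Fin r)) (mT : Finset (Fin r) → X → X)
    (hfix : ∀ T x, T ⊆ A x → mT T x = x)
    (hlt : ∀ T x, ¬ T ⊆ A x → rk (mT T x) < rk x)
    (hcomp : ∀ T U x, T ⊆ U → mT U (mT T x) = mT U x)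
    (f : X → Finset (Fin r) → R) (hf : ∀ T x, f (mT T x) T = f x T)
    (h0 : ∀ x, f x ∅ = 0) (hD : ∀ x T, D (f x) T = 0) :
    ∃ h : X → Finset (Fin r) → R, (∀ U x, h (mT U x) U = h x U) ∧ ∀ x T, D (h x) T = f x T := by
  classical
  let wf : WellFounded fun y x : X => rk y < rk x := InvImage.wf rk wellFounded_lt
  let h' : ∀ x : X, (∀ y, rk y < rk x → Finset (Fin r) → R) → Finset (Fin r) → R := fun x IH U =>
    if hU : U ⊆ A x then 0 else IH (mT U x) (hlt U x hU) U
  let step : ∀ x : X, (∀ y, rk y < rk x → Finset (Fin r) → R) → Finset (Fin r) → R := fun x IH =>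
    h' x IH + (if hA : (A x).Nonempty then K hA.choose (f x - D (h' x IH)) else 0)
  let h := wf.fix step
  have heq : ∀ x, h x = step x fun y _ => h y := fun x => wf.fix_eq step x
  have main : ∀ x, (∀ T, f x T = D (h x) T) ∧ (∀ U, h (mT U x) U = h x U) ∧ ∀ a, h x {a} = 0 := by
    intro x
    induction x using wf.induction with
    | _ x ih =>
      set g := h' x (fun y _ => h y) with hg
      set φ := f x - D g with hφ
      have hgU : ∀ U, U ⊆ A x → g U = 0 := fun U hU => by simp [hg, h', hU]
      have hgU' : ∀ U, ¬ U ⊆ A x → g U = h (mT U x) U := fun U hU => by simp [hg, h', hU]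
      have hφ0 : ∀ T, ¬ T ⊆ A x → φ T = 0 := by
        intro T hT
        rw [hφ, Pi.sub_apply, sub_eq_zero, ← hf T x, (ih _ (hlt T x hT)).1 T]
        refine Finset.sum_congr rfl fun a _ => ?_
        rw [hgU' _ fun hc => hT ((Finset.subset_insert a T).trans hc), ← hcomp T (insert a T) x (Finset.subset_insert _ _),
          (ih _ (hlt T x hT)).2.1 (insert a T)]
      have hDφ : ∀ T, D φ T = 0 := fun T => by rw [hφ, D_sub, hD, D_D, sub_zero]
      have hx : h x = g + (if hA : (A x).Nonempty then K hA.choose φ else 0) := heq x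
      have hg1 : ∀ a, g {a} = 0 := fun a => by
        by_cases ha : ({a} : Finset (Fin r)) ⊆ A x
        · exact hgU _ ha
        · rw [hgU' _ ha, (ih _ (hlt _ x ha)).2.2 a]
      have hφe : φ ∅ = 0 := by
        rw [hφ, Pi.sub_apply, h0, zero_sub, neg_eq_zero]
        refine Finset.sum_eq_zero fun a _ => ?_
        rw [insert_empty_eq, hg1, mul_zero]
      refine ⟨fun T => ?_, fun U => ?_, fun a => ?_⟩
      rotate_left
      rotate_left
      · rw [hx, Pi.add_apply, hg1, zero_add]
        split_ifs with hA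
        · simp only [K, Finset.mem_singleton]
          split_ifs with h1
          · rw [h1, Finset.erase_singleton, hφe, mul_zero]
          · rfl
        · rfl
      · rw [hx, D_add]
        split_ifs with hA
        · have h1 := D_K hA.choose φ T
          have h2 : K hA.choose (D φ) T = 0 := by simp [K, hDφ]
          rw [h2, add_zero] at h1
          rw [h1, hφ, Pi.sub_apply, add_sub_cancel]
        · have h1 : φ T = 0 := by
            by_cases hT : T ⊆ A x
            · rw [Finset.not_nonempty_iff_eq_empty.1 hA, Finset.subset_empty] at hT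
              subst hT
              exact hφe
            · exact hφ0 T hT
          rw [show D (0 : Finset (Fin r) → R) T = 0 by simp [D], add_zero]
          exact sub_eq_zero.1 (by simpa [hφ] using h1)
      · by_cases hU : U ⊆ A x
        · rw [hfix U x hU]
        · rw [hx, Pi.add_apply, hgU' U hU]
          split_ifs with hA
          · have : K hA.choose φ U = 0 := by
              simp only [K]
              split_ifs with h1
              · rw [hφ0, mul_zero]
                intro hc
                refine hU fun b hb => ?_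
                by_cases hbe : b = hA.choose
                · exact hbe ▸ hA.choose_spec
                · exact hc (Finset.mem_erase.2 ⟨hbe, hb⟩)
              · rfl
            rw [this, add_zero]
          · rw [Pi.zero_apply, add_zero]
  exact ⟨h, fun U x => (main x).2.1 U, fun x T => ((main x).1 T).symm⟩

end Boolean

section Chambers

variable {F : Type*} [Field F] {m : ℕ}

theorem blockOf_mono (J : Finset (Fin m)) {a b : Fin (m + 1)} (h : a ≤ b) : blockOf J a ≤ blockOf J b :=
  Finset.card_le_card fun k hk => by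
    simp only [Finset.mem_filter] at hk ⊢
    exact ⟨hk.1, lt_of_lt_of_le hk.2.1 h, hk.2.2⟩

theorem blockOf_lt_iff (J : Finset (Fin m)) {a b : Fin (m + 1)} :
    blockOf J a < blockOf J b ↔ ∃ k : Fin m, k ∉ J ∧ (a : ℕ) ≤ k ∧ (k : ℕ) < b := by
  constructor
  · intro h
    by_contra hc
    push Not at hc
    refine absurd h (not_lt.2 (Finset.card_le_card fun k hk => ?_))
    simp only [Finset.mem_filter] at hk ⊢
    refine ⟨hk.1, ?_, hk.2.2⟩
    by_contra hka
    exact absurd hk.2.1 (not_lt.2 (hc k hk.2.2 (not_lt.1 hka)))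
  · rintro ⟨k, hk, hak, hkb⟩
    refine Finset.card_lt_card ((Finset.ssubset_iff_of_subset fun x hx => ?_).2 ⟨k, ?_, ?_⟩)
    · simp only [Finset.mem_filter] at hx ⊢
      exact ⟨hx.1, by omega, hx.2.2⟩
    · simp [hk, hkb]
    · simp only [Finset.mem_filter, not_and]
      intros
      omega

theorem parabolic_mono {J J' : Finset (Fin m)} (h : J ⊆ J') : parabolic F J ≤ parabolic F J' := by
  intro g hg a b hab
  obtain ⟨k, hk, h1, h2⟩ := (blockOf_lt_iff J').1 hab
  exact hg ((blockOf_lt_iff J).2 ⟨k, fun hc => hk (h hc), h1, h2⟩)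

theorem mem_parabolic {J : Finset (Fin m)} {g : GL (Fin (m + 1)) F} :
    g ∈ parabolic F J ↔ ∀ a b, blockOf J b < blockOf J a → g.1 a b = 0 :=
  ⟨fun h a b hab => h hab, fun h a b hab => h a b hab⟩

theorem mulVec_block {J : Finset (Fin m)} {p : GL (Fin (m + 1)) F} (hp : p ∈ parabolic F J)
    {v : Fin (m + 1) → F} {β : ℕ} (hv : ∀ l, β < blockOf J l → v l = 0) :
    ∀ l, β < blockOf J l → (p.1 *ᵥ v) l = 0 := by
  intro l hl
  simp only [Matrix.mulVec, dotProduct]
  refine Finset.sum_eq_zero fun c _ => ?_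
  by_cases hc : β < blockOf J c
  · exact mul_eq_zero_of_right _ (hv c hc)
  · exact mul_eq_zero_of_left ((mem_parabolic.1 hp) l c (by omega)) _

/-- `v` lives in the first indices up to `k` -/
def Supp (k : Fin (m + 1)) (v : Fin (m + 1) → F) : Prop := ∀ l, k < l → v l = 0

/-- `i` is the lowest row reachable in the step `j` of the flag of `g` -/
def Wit (g : GL (Fin (m + 1)) F) (j i : Fin (m + 1)) : Prop :=
  ∃ v : Fin (m + 1) → F, Supp j v ∧ v j ≠ 0 ∧ Supp i (g.1 *ᵥ v)

theorem wit_last (g : GL (Fin (m + 1)) F) (j : Fin (m + 1)) : Wit g j (Fin.last m) :=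
  ⟨Pi.single j 1, fun l hl => Pi.single_eq_of_ne hl.ne' _, by simp,
    fun l hl => absurd hl (not_lt.2 (Fin.le_last l))⟩

open scoped Classical in
/-- the pivot function of the flag -/
noncomputable def piv (g : GL (Fin (m + 1)) F) (j : Fin (m + 1)) : Fin (m + 1) :=
  (Finset.univ.filter fun i => Wit g j i).min' ⟨Fin.last m, by simp [wit_last]⟩

theorem wit_piv (g : GL (Fin (m + 1)) F) (j : Fin (m + 1)) : Wit g j (piv g j) := by
  classical
  exact (Finset.mem_filter.1 (Finset.min'_mem _ _)).2

theorem piv_le {g : GL (Fin (m + 1)) F} {j i : Fin (m + 1)} (h : Wit g j i) : piv g j ≤ i := by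
  classical
  exact Finset.min'_le _ _ (by simp [h])

theorem piv_injective (g : GL (Fin (m + 1)) F) : Function.Injective (piv g) := by
  have key : ∀ a b, a < b → piv g a ≠ piv g b := by
    intro a b hab he
    obtain ⟨v, hv, hva, hgv⟩ := wit_piv g a
    obtain ⟨w, hw, hwb, hgw⟩ := wit_piv g b
    rw [he] at hgv
    set i := piv g b with hi
    have hne : (g.1 *ᵥ v) i ≠ 0 := by
      intro h0
      by_cases hi0 : (i : ℕ) = 0
      · have : g.1 *ᵥ v = 0 := funext fun l => by
          rcases eq_or_lt_of_le (show i ≤ l by rw [Fin.le_def]; omega) with rfl | hl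
          · exact h0
          · exact hgv l hl
        exact hva (congr_fun (Matrix.mulVec_injective_of_isUnit g.isUnit (this.trans (Matrix.mulVec_zero _).symm)) a)
      · have h1 : piv g a ≤ ⟨(i : ℕ) - 1, by omega⟩ := piv_le ⟨v, hv, hva, fun l hl => by
          rcases eq_or_lt_of_le (show i ≤ l by rw [Fin.lt_def] at hl; rw [Fin.le_def]; simp at hl; omega) with rfl | hl'
          · exact h0
          · exact hgv l hl'⟩
        rw [he, Fin.le_def] at h1
        simp at h1
        omega
    let c := (g.1 *ᵥ w) i / (g.1 *ᵥ v) i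
    have hu : Supp b (w - c • v) := fun l hl => by simp [hw l hl, hv l (hab.trans hl)]
    have hub : (w - c • v) b ≠ 0 := by simp [hv b hab, hwb]
    have hgu : ∀ l, i ≤ l → (g.1 *ᵥ (w - c • v)) l = 0 := fun l hl => by
      rw [Matrix.mulVec_sub, Matrix.mulVec_smul, Pi.sub_apply, Pi.smul_apply, smul_eq_mul]
      rcases eq_or_lt_of_le hl with rfl | hl
      · simp [c, div_mul_cancel₀ _ hne]
      · rw [hgw l hl, hgv l hl, mul_zero, sub_zero]
    by_cases hi0 : (i : ℕ) = 0
    · have : g.1 *ᵥ (w - c • v) = 0 := funext fun l => hgu l (by rw [Fin.le_def]; omega)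
      exact hub (congr_fun (Matrix.mulVec_injective_of_isUnit g.isUnit (this.trans (Matrix.mulVec_zero _).symm)) b)
    · have h1 : piv g b ≤ ⟨(i : ℕ) - 1, by omega⟩ := piv_le ⟨_, hu, hub, fun l hl => hgu l (by
          rw [Fin.lt_def] at hl; rw [Fin.le_def]; simp at hl; omega)⟩
      rw [← hi, Fin.le_def] at h1
      simp at h1
      omega
  intro a b h
  rcases lt_trichotomy a b with hab | hab | hab
  · exact absurd h (key a b hab)
  · exact hab
  · exact absurd h.symm (key b a hab)

theorem borel_supp {b : GL (Fin (m + 1)) F} (hb : b ∈ parabolic F (∅ : Finset (Fin m)))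
    {j : Fin (m + 1)} {v : Fin (m + 1) → F} (hv : Supp j v) :
    Supp j (b.1 *ᵥ v) ∧ (b.1 *ᵥ v) j = b.1 j j * v j := by
  have hz : ∀ a c : Fin (m + 1), c < a → b.1 a c = 0 := fun a c hca =>
    (mem_parabolic.1 hb) a c ((blockOf_lt_iff _).2 ⟨⟨c, by have := a.2; rw [Fin.lt_def] at hca; omega⟩,
      Finset.notMem_empty _, le_rfl, hca⟩)
  refine ⟨fun l hl => ?_, ?_⟩
  · simp only [Matrix.mulVec, dotProduct]
    refine Finset.sum_eq_zero fun c _ => ?_
    by_cases hc : j < c
    · exact mul_eq_zero_of_right _ (hv c hc)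
    · exact mul_eq_zero_of_left (hz l c (lt_of_le_of_lt (not_lt.1 hc) hl)) _
  · refine (Finset.sum_eq_single j (fun c _ hc => ?_) (fun h => absurd (Finset.mem_univ j) h))
    rcases lt_or_gt_of_ne hc with h | h
    · exact mul_eq_zero_of_left (hz j c h) _
    · exact mul_eq_zero_of_right _ (hv c h)

theorem piv_mul (g b : GL (Fin (m + 1)) F) (hb : b ∈ parabolic F (∅ : Finset (Fin m))) :
    piv (g * b) = piv g := by
  have key : ∀ (g b : GL (Fin (m + 1)) F), b ∈ parabolic F (∅ : Finset (Fin m)) →
      ∀ j, piv g j ≤ piv (g * b) j := by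
    intro g b hb j
    obtain ⟨v, hv, hvj, hgv⟩ := wit_piv (g * b) j
    refine piv_le ⟨b.1 *ᵥ v, (borel_supp hb hv).1, fun h0 => ?_, by
      rwa [Matrix.mulVec_mulVec, ← Units.val_mul]⟩
    have h1 := (borel_supp (inv_mem hb) (borel_supp hb hv).1).2
    rw [Matrix.mulVec_mulVec, ← Units.val_mul, inv_mul_cancel, Units.val_one, Matrix.one_mulVec, h0,
      mul_zero] at h1
    exact hvj h1
  funext j
  refine le_antisymm ?_ (key g b hb j)
  have := key (g * b) b⁻¹ (inv_mem hb) j
  rwa [mul_inv_cancel_right] at this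

/-- increasing on the blocks -/
def Incr (J : Finset (Fin m)) (g : GL (Fin (m + 1)) F) : Prop :=
  ∀ k ∈ J, piv g k.castSucc < piv g k.succ

theorem Incr.lt {J : Finset (Fin m)} {g : GL (Fin (m + 1)) F} (h : Incr J g) {a b : Fin (m + 1)}
    (hab : a < b) (he : blockOf J a = blockOf J b) : piv g a < piv g b := by
  obtain ⟨d, hd⟩ : ∃ d, (b : ℕ) = a + d + 1 := ⟨b - a - 1, by rw [Fin.lt_def] at hab; omega⟩
  induction d generalizing b with
  | zero =>
    have ha : (a : ℕ) < m := by have := b.2; omega
    have hJ : (⟨a, ha⟩ : Fin m) ∈ J := by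
      by_contra hn
      exact absurd he (ne_of_lt ((blockOf_lt_iff J).2 ⟨_, hn, le_rfl, by simp; omega⟩))
    have e1 : (⟨a, ha⟩ : Fin m).succ = b := Fin.ext (by simp; omega)
    have := h _ hJ
    rwa [e1] at this
  | succ d ih =>
    let b' : Fin (m + 1) := ⟨a + d + 1, by have := b.2; omega⟩
    have hb' : b' ≤ b := by rw [Fin.le_def]; simp [b']; omega
    have hab' : a < b' := by rw [Fin.lt_def]; show (a : ℕ) < a + d + 1; omega
    have he' : blockOf J a = blockOf J b' :=
      le_antisymm (blockOf_mono J hab'.le) (he ▸ blockOf_mono J hb')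
    refine lt_trans (ih hab' he' rfl) ?_
    have hk : (b' : ℕ) < m := by have := b.2; simp [b']; omega
    have hJ : (⟨b', hk⟩ : Fin m) ∈ J := by
      by_contra hn
      exact absurd (he'.symm.trans he) (ne_of_lt ((blockOf_lt_iff J).2 ⟨_, hn, le_rfl, by simp [b']; omega⟩))
    have e1 : (⟨b', hk⟩ : Fin m).succ = b := Fin.ext (by simp [b']; omega)
    have := h _ hJ
    rwa [e1] at this

theorem supp_span (g : GL (Fin (m + 1)) F) (S : Submodule F (Fin (m + 1) → F)) (j : Fin (m + 1))
    (hS : ∀ l ≤ j, ∃ v, v ∈ S ∧ Supp l v ∧ v l ≠ 0) (v : Fin (m + 1) → F) (hv : Supp j v) : v ∈ S := by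
  obtain ⟨i, hi⟩ : ∃ i : ℕ, (j : ℕ) = i := ⟨_, rfl⟩
  induction i generalizing j v with
  | zero =>
    obtain ⟨w, hwS, hw, hwj⟩ := hS j le_rfl
    have : v = (v j / w j) • w := funext fun l => by
      rcases eq_or_lt_of_le (show j ≤ l by rw [Fin.le_def]; omega) with rfl | hl
      · simp [div_mul_cancel₀ _ hwj]
      · simp [hv l hl, hw l hl]
    rw [this]; exact S.smul_mem _ hwS
  | succ i ih =>
    obtain ⟨w, hwS, hw, hwj⟩ := hS j le_rfl
    have hj' : i < m + 1 := by omega
    have h1 : v - (v j / w j) • w ∈ S := ih ⟨i, hj'⟩ (fun l hl => hS l (hl.trans (by rw [Fin.le_def]; simp; omega)))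
      _ (fun l hl => by
        rcases eq_or_lt_of_le (show j ≤ l by rw [Fin.lt_def] at hl; rw [Fin.le_def]; simp at hl; omega) with rfl | hl'
        · simp [div_mul_cancel₀ _ hwj]
        · simp [hv l hl', hw l hl']) rfl
    simpa using S.add_mem h1 (S.smul_mem (v j / w j) hwS)

/-- the step of the standard flag -/
def flag (k : Fin (m + 1)) : Submodule F (Fin (m + 1) → F) where
  carrier := {v | Supp k v}
  zero_mem' := fun _ _ => rfl
  add_mem' := fun ha hb l hl => by simp [ha l hl, hb l hl]
  smul_mem' := fun c _ ha l hl => by simp [ha l hl]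

theorem incr_top {J : Finset (Fin m)} {g : GL (Fin (m + 1)) F} {k i : Fin (m + 1)}
    (hk : ∀ l, k < l → blockOf J l = blockOf J k → i < piv g l)
    {v : Fin (m + 1) → F} (hv : ∀ l, blockOf J k < blockOf J l → v l = 0) (hgv : Supp i (g.1 *ᵥ v)) :
    Supp k v := by
  classical
  by_contra hc
  simp only [Supp, not_forall] at hc
  obtain ⟨l0, hl0, hvl0⟩ := hc
  let s := Finset.univ.filter fun l => k < l ∧ v l ≠ 0
  have hs : s.Nonempty := ⟨l0, by simp [s, hl0, hvl0]⟩
  obtain ⟨hkl, hvl⟩ : k < s.max' hs ∧ v (s.max' hs) ≠ 0 := by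
    simpa [s] using Finset.max'_mem s hs
  have hsupp : Supp (s.max' hs) v := fun l hl => by
    by_contra h
    exact absurd (Finset.le_max' s l (by simp [s, hkl.trans hl, h])) (not_le.2 hl)
  have hb : blockOf J (s.max' hs) = blockOf J k := le_antisymm
    (not_lt.1 fun h => hvl (hv _ h)) (blockOf_mono J hkl.le)
  exact absurd (piv_le ⟨v, hsupp, hvl, hgv⟩) (not_le.2 (hk _ hkl hb))

theorem incr_unique {J : Finset (Fin m)} {g p : GL (Fin (m + 1)) F} (hp : p ∈ parabolic F J)
    (hg : Incr J g) (hg' : Incr J (g * p)) : p ∈ parabolic F (∅ : Finset (Fin m)) := by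
  have key : ∀ k, Supp k (p.1 *ᵥ Pi.single k 1) := by
    intro k
    set i := piv (g * p) k
    have hlow : ∀ (q : GL (Fin (m + 1)) F), q ∈ parabolic F J → ∀ l : Fin (m + 1),
        blockOf J l < blockOf J k → Supp k (q.1 *ᵥ Pi.single l 1) := by
      intro q hq l hl a ha
      refine mulVec_block hq (β := blockOf J l) (fun c hc => Pi.single_eq_of_ne ?_ _) a
        (lt_of_lt_of_le hl (blockOf_mono J ha.le))
      rintro rfl; omega
    have hN : ∀ l, k < l → blockOf J l = blockOf J k → i < piv g l := by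
      intro j hkj hj
      by_contra hc
      have hc' : piv g j ≤ i := not_lt.1 hc
      have hS : ∀ v, Supp j v → v ∈ (flag k).comap (p⁻¹ : GL (Fin (m + 1)) F).1.mulVecLin := by
        refine fun v hv => supp_span g _ j (fun l hl => ?_) v hv
        rcases lt_or_eq_of_le (hj ▸ blockOf_mono J hl : blockOf J l ≤ blockOf J k) with hb | hb
        · exact ⟨Pi.single l 1, hlow _ (inv_mem hp) l hb, fun a ha => Pi.single_eq_of_ne ha.ne' _, by simp⟩
        · obtain ⟨w, hw, hwl, hgw⟩ := wit_piv g l
          refine ⟨w, ?_, hw, hwl⟩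
          show Supp k ((p⁻¹ : GL (Fin (m + 1)) F).1 *ᵥ w)
          refine incr_top (J := J) (g := g * p) (i := i) (fun a ha hab => hg'.lt ha hab.symm)
            (mulVec_block (inv_mem hp) (β := blockOf J k) fun a ha => hw a ?_) ?_
          · by_contra h
            have := blockOf_mono J (not_lt.1 h)
            omega
          · rw [Matrix.mulVec_mulVec, ← Units.val_mul, mul_inv_cancel_right]
            intro a ha
            refine hgw a (lt_of_le_of_lt ?_ ha)
            rcases eq_or_lt_of_le hl with rfl | hlt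
            · exact hc'
            · exact ((hg.lt hlt (hb.trans hj.symm)).le).trans hc'
      let ext : (Fin ((j : ℕ) + 1) → F) →ₗ[F] (Fin (m + 1) → F) :=
        { toFun := fun v l => if h : (l : ℕ) < (j : ℕ) + 1 then v ⟨l, h⟩ else 0
          map_add' := fun v w => funext fun l => by dsimp; split_ifs <;> simp
          map_smul' := fun c v => funext fun l => by dsimp; split_ifs <;> simp }
      let res : (Fin (m + 1) → F) →ₗ[F] (Fin ((k : ℕ) + 1) → F) :=
        LinearMap.funLeft F F fun a => ⟨a, by omega⟩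
      have hext : ∀ v, Supp j (ext v) := fun v l hl => by
        change dite _ _ _ = _
        rw [dif_neg]; rw [Fin.lt_def] at hl; omega
      let φ := res ∘ₗ (p⁻¹ : GL (Fin (m + 1)) F).1.mulVecLin ∘ₗ ext
      have hinj : Function.Injective φ := (injective_iff_map_eq_zero _).2 fun v hv => by
        have h0 : (p⁻¹ : GL (Fin (m + 1)) F).1 *ᵥ ext v = 0 := funext fun a => by
          by_cases ha : k < a
          · exact hS _ (hext v) a ha
          · exact congr_fun hv ⟨a, by rw [Fin.lt_def] at ha; omega⟩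
        have h1 : ext v = 0 :=
          Matrix.mulVec_injective_of_isUnit (p⁻¹ : GL (Fin (m + 1)) F).isUnit (h0.trans (Matrix.mulVec_zero _).symm)
        funext a
        have := congr_fun h1 ⟨a, by omega⟩
        have h2 : (⟨(a : ℕ), by omega⟩ : Fin (m + 1)) ≤ j → v a = 0 := by simpa [ext] using this
        exact h2 (Nat.lt_succ_iff.1 a.2)
      have := LinearMap.finrank_le_finrank_of_injective hinj
      rw [Module.finrank_fin_fun, Module.finrank_fin_fun] at this
      rw [Fin.lt_def] at hkj
      omega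
    have hmem : Pi.single k 1 ∈ (flag k).comap p.1.mulVecLin := by
      refine supp_span g _ k (fun l hl => ?_) _ fun a ha => Pi.single_eq_of_ne ha.ne' _
      rcases lt_or_eq_of_le (blockOf_mono J hl) with hb | hb
      · exact ⟨Pi.single l 1, hlow _ hp l hb, fun a ha => Pi.single_eq_of_ne ha.ne' _, by simp⟩
      · obtain ⟨w, hw, hwl, hgw⟩ := wit_piv (g * p) l
        refine ⟨w, ?_, hw, hwl⟩
        show Supp k (p.1 *ᵥ w)
        refine incr_top (J := J) (g := g) (i := i) hN (mulVec_block hp (β := blockOf J k) fun a ha => hw a ?_) ?_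
        · by_contra h
          have := blockOf_mono J (not_lt.1 h)
          omega
        · rw [Matrix.mulVec_mulVec, ← Units.val_mul]
          intro a ha
          refine hgw a (lt_of_le_of_lt ?_ ha)
          rcases eq_or_lt_of_le hl with rfl | hlt
          · exact le_rfl
          · exact (hg'.lt hlt hb).le
    exact hmem
  rw [mem_parabolic]
  intro a b hab
  have := key b a (lt_of_not_ge fun h => absurd hab (not_lt.2 (blockOf_mono _ h)))
  simpa [Matrix.mulVec_single_one] using this

theorem exists_better {J : Finset (Fin m)} {g : GL (Fin (m + 1)) F} (h : ¬ Incr J g) :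
    ∃ p ∈ parabolic F J, toLex (piv (g * p)) < toLex (piv g) := by
  classical
  simp only [Incr, not_forall, exists_prop] at h
  obtain ⟨k, hk, hlt⟩ := h
  have hlt' : piv g k.succ < piv g k.castSucc :=
    lt_of_le_of_ne (not_lt.1 hlt) fun he => (Fin.castSucc_lt_succ (i := k)).ne' (piv_injective g he)
  obtain ⟨w, hw, hwk, hgw⟩ := wit_piv g k.succ
  let M : Matrix (Fin (m + 1)) (Fin (m + 1)) F := Matrix.of fun a b =>
    if b = k.castSucc then w a
    else if b = k.succ then (if a = k.castSucc then 1 else 0) else (if a = b then 1 else 0)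
  have hcol : ∀ b, M *ᵥ Pi.single b 1 = fun a => M a b := fun b => by
    rw [Matrix.mulVec_single_one]; rfl
  have hsurj : ∀ b : Fin (m + 1), ∃ v, M *ᵥ v = Pi.single b 1 := by
    have h1 : ∀ b, b ≠ k.succ → ∃ v, M *ᵥ v = Pi.single b 1 := by
      intro b hb
      by_cases hb' : b = k.castSucc
      · refine ⟨Pi.single k.succ 1, ?_⟩
        rw [hcol]; funext a
        simp [M, hb', Pi.single_apply, (Fin.castSucc_lt_succ (i := k)).ne']
      · refine ⟨Pi.single b 1, ?_⟩
        rw [hcol]; funext a
        simp [M, hb, hb', Pi.single_apply]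
    intro b
    by_cases hb : b = k.succ
    · subst hb
      have h2 : Pi.single k.succ (1 : F) = (w k.succ)⁻¹ • (w - ∑ a ∈ Finset.univ.erase k.succ, w a • Pi.single a 1) := by
        have hw' : w = ∑ a, w a • Pi.single a (1 : F) := pi_eq_sum_univ' w
        rw [← Finset.add_sum_erase _ _ (Finset.mem_univ k.succ)] at hw'
        rw [sub_eq_of_eq_add hw', smul_smul, inv_mul_cancel₀ hwk, one_smul]
      choose v hv using h1
      refine ⟨(w k.succ)⁻¹ • (Pi.single k.castSucc 1 - ∑ a ∈ (Finset.univ.erase k.succ).attach,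
        w a.1 • v a.1 (Finset.ne_of_mem_erase a.2)), ?_⟩
      rw [h2, Matrix.mulVec_smul, Matrix.mulVec_sub, Matrix.mulVec_sum, hcol, Finset.sum_congr rfl
        fun a _ => by rw [Matrix.mulVec_smul, hv]]
      rw [Finset.sum_attach _ fun a => w a • Pi.single a (1 : F)]
      congr 2
      funext a
      simp [M]
    · exact h1 b hb
  have hunit : IsUnit M := by
    rw [← Matrix.mulVec_surjective_iff_isUnit]
    intro y
    choose v hv using hsurj
    refine ⟨∑ b, y b • v b, ?_⟩
    simp only [Matrix.mulVec_sum, Matrix.mulVec_smul, hv]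
    exact (pi_eq_sum_univ' y).symm
  have hblk : ∀ a b, blockOf J b < blockOf J a → M a b = 0 := by
    intro a b hab
    have hne : b < a := lt_of_not_ge fun h => absurd hab (not_lt.2 (blockOf_mono J h))
    simp only [M, Matrix.of_apply]
    split_ifs with h1 h2 h3 h4
    · refine hw a (lt_of_le_of_ne ?_ ?_)
      · rw [h1, Fin.lt_def] at hne; rw [Fin.le_def]; simp at hne ⊢; omega
      · rintro rfl
        obtain ⟨c, hc, hc1, hc2⟩ := (blockOf_lt_iff J).1 hab
        rw [h1] at hc1
        simp at hc1 hc2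
        exact hc (by rwa [show c = k from Fin.ext (by omega)])
    · subst h2 h3; exact absurd hne (not_lt.2 (Fin.castSucc_lt_succ (i := k)).le)
    · rfl
    · exact absurd h4 hne.ne'
    · rfl
  obtain ⟨p, hp⟩ : ∃ p : GL (Fin (m + 1)) F, p.1 = M := ⟨hunit.unit, hunit.unit_spec⟩
  refine ⟨p, mem_parabolic.2 (hp ▸ hblk), ?_⟩
  have hnew : piv (g * p) k.castSucc < piv g k.castSucc := lt_of_le_of_lt
    (piv_le ⟨Pi.single k.castSucc 1, fun a ha => Pi.single_eq_of_ne ha.ne' _, by simp, by
      rw [Units.val_mul, ← Matrix.mulVec_mulVec, hp, hcol]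
      simpa [M] using hgw⟩) hlt'
  have hold : ∀ l, l < k.castSucc → piv (g * p) l = piv g l := by
    intro l hl
    have hfix : ∀ v, Supp l v → M *ᵥ v = v := fun v hv => by
      funext a
      refine (Finset.sum_eq_single a (fun c _ hc => ?_) (fun h => absurd (Finset.mem_univ a) h)).trans ?_
      · by_cases hcl : l < c
        · exact mul_eq_zero_of_right _ (hv c hcl)
        · have h1 : c ≠ k.castSucc := fun e => hcl (e ▸ hl)
          have h2 : c ≠ k.succ := fun e => hcl (e ▸ hl.trans Fin.castSucc_lt_succ)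
          simp [M, h1, h2, Ne.symm hc]
      · by_cases hal : l < a
        · simp [hv a hal]
        · have h1 : a ≠ k.castSucc := fun e => hal (e ▸ hl)
          have h2 : a ≠ k.succ := fun e => hal (e ▸ hl.trans Fin.castSucc_lt_succ)
          simp [M, h1, h2]
    have hgfix : ∀ v, Supp l v → (g * p).1 *ᵥ v = g.1 *ᵥ v := fun v hv => by
      rw [Units.val_mul, ← Matrix.mulVec_mulVec, hp, hfix v hv]
    refine le_antisymm ?_ ?_
    · obtain ⟨v, hv, hvl, hgv⟩ := wit_piv g l
      exact piv_le ⟨v, hv, hvl, by rw [hgfix v hv]; exact hgv⟩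
    · obtain ⟨v, hv, hvl, hgv⟩ := wit_piv (g * p) l
      exact piv_le ⟨v, hv, hvl, by rw [← hgfix v hv]; exact hgv⟩
  exact ⟨k.castSucc, hold, hnew⟩

end Chambers

end Groth.DLVar
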